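import Groth.Agent.SemidirMonoLib.Basic
import Groth.Agent.CommFormLib.Basic
import Mathlib.Algebra.DualNumber

/-!
# The kernel of a homomorphism from `T ⋉ 𝔾ₐ` near a point where it is a monomorphism
-/

set_option autoImplicit false
set_option backward.isDefEq.respectTransparency false
set_option backward.isDefEq.respectTransparency.types false
set_option linter.style.haveILetI false

universe u

open CategoryTheory CategoryTheory.Limits MonoidalCategory CartesianMonoidalCategory MonObj GrpObj AlgebraicGeometry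

noncomputable section

namespace Groth.Agent.SemidirMonoLib

open Groth.Agent.RankOneRelLib Groth.Agent.RankOneCellLib Groth.Agent.MonoNhd Groth.Agent.CommFormLib

variable {S : Scheme.{u}} {G T P : Over S} [GrpObj G] [GrpObj T] [GrpObj P]

theorem exists_nhd_mono (hT : Red.IsTorus T) (α : T ⟶ Red.Gm S) [IsMonHom α] (hfl : Flat α.left)
    (hsu : Surjective α.left) (jT : T ⟶ P) [IsMonHom jT] (jU : Red.Ga S ⟶ P) [IsMonHom jU]
    (hiso : IsIso ((jT ⊗ₘ jU) ≫ μ[P]))
    (hconj : ∀ (X : Over S) (t : X ⟶ T) (x x' : X ⟶ Red.Ga S), Red.gaFn x' = Red.gmFn (t ≫ α) * Red.gaFn x →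
      (t ≫ jT) * (x ≫ jU) * (t ≫ jT)⁻¹ = x' ≫ jU)
    (s₀ : S) (f : P ⟶ G) [IsMonHom f] [Mono ((Over.pullback (S.fromSpecResidueField s₀)).map f)]
    [Mono (jT ≫ f)] :
    ∃ U : S.Opens, s₀ ∈ U ∧ Mono ((Over.pullback U.ι).map f) := by
  haveI := hiso
  let u : Red.Ga S ⟶ G := jU ≫ f
  obtain ⟨_, ⟨U₀, hU₀, rfl⟩, hsU, -⟩ :=
    S.isBasis_affineOpens.exists_subset_of_mem_open (Set.mem_univ s₀) isOpen_univ
  let B : CommRingCat.{u} := Γ(S, U₀)
  let t : Spec B ⟶ S := hU₀.fromSpec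
  obtain ⟨Q, hQ⟩ : ∃ Q : PrimeSpectrum B, t Q = s₀ := by
    have : s₀ ∈ Set.range t := by rw [IsAffineOpen.range_fromSpec]; exact hsU
    exact this
  subst hQ
  have hmf : Mono ((Over.pullback (S.fromSpecResidueField (t Q))).map f).left :=
    inferInstanceAs (Mono ((Over.forget _).map ((Over.pullback (S.fromSpecResidueField (t Q))).map f)))
  have hkf := (kerTriv_iff_mono f _).2 hmf
  -- an element of the kernel of `𝔾ₐ` over the point is trivial
  have hu : KerTriv u (S.fromSpecResidueField (t Q)) := fun Y p h hh => by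
    have h1 : h ≫ jU = 1 := hkf Y p (h ≫ jU) (by rw [Category.assoc]; exact hh)
    have h2 : lift (1 : Y ⟶ T) h ≫ ((jT ⊗ₘ jU) ≫ μ[P]) = lift (1 : Y ⟶ T) 1 ≫ ((jT ⊗ₘ jU) ≫ μ[P]) := by
      simp only [lift_map_assoc, ← Hom.mul_def, MonObj.one_comp, h1]
    have h3 := congrArg (· ≫ snd _ _) ((cancel_mono _).1 h2)
    simpa using h3
  have hcj : ∀ (X : Over S) (τ : X ⟶ T) (a : Γ(X.left, ⊤)),
      (τ ≫ jT) * (gp a ≫ jU) * (τ ≫ jT)⁻¹ = gp ((alH α X τ : Γ(X.left, ⊤)) * a) ≫ jU :=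
    fun X τ a => hconj X τ (gp a) _ (by rw [gaFn_gp, gaFn_gp]; rfl)
  -- the kernel is stable under homotheties
  have hst : ∀ (X : Over S) (a : Γ(X.left, ⊤)) (c : Γ(X.left, ⊤)ˣ), gp a ≫ u = 1 →
      gp ((c : Γ(X.left, ⊤)) * a) ≫ u = 1 := fun X a c ha => by
    obtain ⟨X', q, τ, hq, -, hτ⟩ := exists_cover_char α hfl hsu c
    haveI := hq
    rw [← cancel_epi q, MonObj.comp_one, comp_root, map_mul]
    have h := congrArg (· ≫ f) (hcj X' τ (q.left.appTop a))
    simp only [MonObj.mul_comp, GrpObj.inv_comp, Category.assoc] at h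
    have ha' : gp (q.left.appTop a) ≫ jU ≫ f = 1 := by
      rw [← comp_root (jU ≫ f) q a]
      show q ≫ gp a ≫ u = 1
      rw [ha, MonObj.comp_one]
    rw [ha', _root_.mul_one, mul_inv_cancel] at h
    rw [← hτ]
    exact h.symm
  obtain ⟨b, hb, htriv⟩ := exists_triv t u Q hu hst
  let L : CommRingCat.{u} := CommRingCat.of (Localization.Away b)
  let q : Spec L ⟶ S := Spec.map (CommRingCat.ofHom (algebraMap B (Localization.Away b))) ≫ t
  haveI : IsOpenImmersion q := inferInstance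
  -- points over `q` of the kernel of `f`
  have haff : ∀ {R : CommRingCat.{u}} (g : B ⟶ R), IsUnit (g b) → ∀ p : pt t g ⟶ P, p ≫ f = 1 → p = 1 := by
    intro R g hg p hp
    let e := p ≫ inv ((jT ⊗ₘ jU) ≫ μ[P])
    obtain ⟨r, hr⟩ := exists_eq_sp t g (e ≫ snd _ _)
    have hdec : p = (e ≫ fst _ _ ≫ jT) * (sp t g r ≫ jU) := by
      rw [← hr, Hom.mul_def]
      calc p = e ≫ ((jT ⊗ₘ jU) ≫ μ[P]) := by simp [e]
        _ = lift (e ≫ fst _ _) (e ≫ snd _ _) ≫ ((jT ⊗ₘ jU) ≫ μ[P]) := by rw [lift_comp_fst_snd]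
        _ = _ := by simp only [lift_map_assoc, Category.assoc]
    let R' : CommRingCat.{u} := CommRingCat.of (DualNumber R)
    let φ : R ⟶ R' := CommRingCat.ofHom (algebraMap R (DualNumber R))
    let k := res t g φ (g ≫ φ) rfl
    let ε : R' := DualNumber.eps
    have hc : IsUnit ((Scheme.ΓSpecIso R').inv (1 + ε)) :=
      (IsUnit.of_mul_eq_one (1 - ε) (by linear_combination -(DualNumber.eps_mul_eps (R := R)))).map _
    obtain ⟨X', v, τ, hv, -, hτ⟩ := exists_cover_char α hfl hsu (X := pt t (g ≫ φ)) hc.unit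
    haveI := hv
    rw [IsUnit.unit_spec] at hτ
    let a := v ≫ k ≫ e ≫ fst _ _
    let x := v.left.appTop ((Scheme.ΓSpecIso R').inv (φ r))
    have hpX : v ≫ k ≫ p = (a ≫ jT) * (gp x ≫ jU) := by
      rw [hdec, MonObj.comp_mul, MonObj.comp_mul, ← Category.assoc k (sp t g r), res_sp, comp_root]
      simp only [a, Category.assoc]
      rfl
    have h1 : (a ≫ jT ≫ f) * (gp x ≫ jU ≫ f) = 1 := by
      have h := congrArg (· ≫ f) hpX
      simp only [Category.assoc, hp, MonObj.comp_one, MonObj.mul_comp] at h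
      exact h.symm
    have h2 : (a ≫ jT ≫ f) * (gp (Red.gmFn (τ ≫ α) * x) ≫ jU ≫ f) = 1 := by
      have hc' := congrArg (· ≫ f) (hcj X' τ x)
      simp only [MonObj.mul_comp, GrpObj.inv_comp, Category.assoc] at hc'
      have hcomm : (τ ≫ jT ≫ f) * (a ≫ jT ≫ f) = (a ≫ jT ≫ f) * (τ ≫ jT ≫ f) := by
        rw [← MonObj.mul_comp, ← MonObj.mul_comp, pts_comm_of_isTorus hT]
      show (a ≫ jT ≫ f) * (gp ((alH α X' τ : Γ(X'.left, ⊤)) * x) ≫ jU ≫ f) = 1
      rw [← hc', ← _root_.mul_assoc, ← _root_.mul_assoc, ← hcomm, _root_.mul_assoc (τ ≫ jT ≫ f),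
        h1, _root_.mul_one, mul_inv_cancel]
    have h3 : gp (Red.gmFn (τ ≫ α) * x - x) ≫ u = 1 := by
      have h := mul_left_cancel (h1.trans h2.symm)
      show gp (Red.gmFn (τ ≫ α) * x - x) ≫ jU ≫ f = 1
      rw [sub_eq_add_neg, ← gp_add, MonObj.mul_comp, ← h, ← MonObj.mul_comp, gp_add, add_neg_cancel,
        gp_zero_comp]
    have h4 : sp t (g ≫ φ) (ε * φ r) ≫ u = 1 := by
      rw [← cancel_epi v, MonObj.comp_one, comp_root]
      rw [hτ, ← map_mul, ← map_sub] at h3
      convert h3 using 3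
      rw [← map_mul (Scheme.ΓSpecIso R').inv.hom, ← map_sub (Scheme.ΓSpecIso R').inv.hom]
      congr 2
      ring
    have h5 := htriv (g ≫ φ) (ε * φ r) (by exact hg.map φ.hom) h4
    have hr0 : r = 0 := by
      have h := congrArg TrivSqZeroExt.snd h5
      have e1 : TrivSqZeroExt.snd ((DualNumber.eps : DualNumber R) * TrivSqZeroExt.inl r) = r := by
        rw [TrivSqZeroExt.snd_mul, DualNumber.fst_eps, DualNumber.snd_eps, TrivSqZeroExt.fst_inl,
          TrivSqZeroExt.snd_inl, smul_zero, _root_.zero_add]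
        simp
      exact e1.symm.trans (h.trans TrivSqZeroExt.snd_zero)
    rw [hdec, hr0, sp_zero, MonObj.one_comp, _root_.mul_one] at hp ⊢
    have h6 : (e ≫ fst _ _) ≫ (jT ≫ f) = (1 : pt t g ⟶ T) ≫ (jT ≫ f) := by
      rw [MonObj.one_comp]
      simpa using hp
    rw [← Category.assoc, (cancel_mono _).1 h6, MonObj.one_comp]
  refine ⟨q.opensRange, ?_, ?_⟩
  · let Q' : ↥(Spec L) := ⟨_, IsLocalization.isPrime_of_isPrime_disjoint (Submonoid.powers b) _ Q.asIdeal Q.2
      (Set.disjoint_left.2 fun z ⟨n, hn⟩ hz => hb (Q.2.mem_of_pow_mem n (by subst hn; exact hz)))⟩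
    refine ⟨Q', ?_⟩
    show t (Spec.map _ Q') = t Q
    congr 1
    exact PrimeSpectrum.ext (IsLocalization.under_map_of_isPrime_disjoint (Submonoid.powers b) _ Q.2
      (Set.disjoint_left.2 fun z ⟨n, hn⟩ hz => hb (Q.2.mem_of_pow_mem n (by subst hn; exact hz))))
  have hq : KerTriv f q := fun Y p h hh => by
    apply Over.OverMorphism.ext
    refine Scheme.Cover.hom_ext Y.left.affineCover _ _ fun i => ?_
    let j := Y.left.affineCover.f i
    obtain ⟨g', hg'⟩ := Spec.map_surjective (j ≫ p.left)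
    let g : B ⟶ _ := CommRingCat.ofHom (algebraMap B (Localization.Away b)) ≫ g'
    let k : pt t g ⟶ Y := Over.homMk j (by
      show j ≫ Y.hom = Spec.map g ≫ t
      rw [← Over.w p, ← Category.assoc, ← hg', Spec.map_comp, Category.assoc]
      rfl)
    have h' := haff g ((IsLocalization.Away.algebraMap_isUnit b).map g'.hom) (k ≫ h)
      (by rw [Category.assoc, hh, MonObj.comp_one])
    have h'' := congrArg CommaMorphism.left (h'.trans (MonObj.comp_one k).symm)
    exact h''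
  have hU := (kerTriv_iff_mono f q.opensRange.ι).1 (hq.of_comp q.isoOpensRange.inv (by simp))
  exact Over.mono_of_mono_left _

end Groth.Agent.SemidirMonoLib
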