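import Groth.Agent.RankOneCellLib.RootHom
import Groth.Agent.RankOneCellLib.CharFibre
import Groth.Agent.MonoNhd.Main

/-!
# A homomorphism from `T ⋉ 𝔾ₐ` which is a monomorphism at a point is one nearby

The kernel of the restriction to `𝔾ₐ` is stable under homotheties; near the point it meets a
neighbourhood of the zero section only in the zero section, so it is trivial there.
-/

set_option autoImplicit false
set_option backward.isDefEq.respectTransparency false
set_option backward.isDefEq.respectTransparency.types false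
set_option linter.style.haveILetI false

universe u

open CategoryTheory CategoryTheory.Limits MonoidalCategory CartesianMonoidalCategory MonObj GrpObj AlgebraicGeometry

noncomputable section

namespace Groth.Agent.SemidirMonoLib

open Groth.Agent.RankOneRelLib Groth.Agent.RankOneCellLib Groth.Agent.MonoNhd

variable {S : Scheme.{u}}

section Affine

variable {B : CommRingCat.{u}} (t : Spec B ⟶ S)

/-- The `S`-scheme of a `B`-algebra. -/
abbrev pt {R : CommRingCat.{u}} (g : B ⟶ R) : Over S := Over.mk (Spec.map g ≫ t)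

/-- The point of `𝔾ₐ` given by an element. -/
abbrev sp {R : CommRingCat.{u}} (g : B ⟶ R) (r : R) : pt t g ⟶ Red.Ga S :=
  gp ((Scheme.ΓSpecIso R).inv r)

/-- Restriction along an algebra map. -/
def res {R R' : CommRingCat.{u}} (g : B ⟶ R) (φ : R ⟶ R') (g' : B ⟶ R') (h : g ≫ φ = g') :
    pt t g' ⟶ pt t g :=
  Over.homMk (Spec.map φ) (by
    show Spec.map φ ≫ Spec.map g ≫ t = Spec.map g' ≫ t
    rw [← h, Spec.map_comp, Category.assoc])

theorem res_sp {R R' : CommRingCat.{u}} (g : B ⟶ R) (φ : R ⟶ R') (g' : B ⟶ R') (h : g ≫ φ = g') (r : R) :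
    res t g φ g' h ≫ sp t g r = sp t g' (φ r) := by
  rw [comp_gp]
  congr 1
  exact (ConcreteCategory.congr_hom (Scheme.ΓSpecIso_inv_naturality φ) r).symm

theorem sp_zero {R : CommRingCat.{u}} (g : B ⟶ R) : sp t g 0 = 1 :=
  GaPoints.gaFn_injective (by rw [gaFn_gp, GaPoints.gaFn_one, map_zero])

theorem exists_eq_sp {R : CommRingCat.{u}} (g : B ⟶ R) (x : pt t g ⟶ Red.Ga S) : ∃ r, x = sp t g r :=
  ⟨(Scheme.ΓSpecIso R).hom (Red.gaFn x), by
    rw [sp]
    erw [Iso.hom_inv_id_apply]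
    exact (gp_gaFn x).symm⟩

variable {G : Over S} [GrpObj G] (u : Red.Ga S ⟶ G) [IsMonHom u]

/-- Near a point with trivial kernel, a neighbourhood of the zero section meets the kernel only there. -/
theorem exists_poly (P : PrimeSpectrum B) (hP : KerTriv u (S.fromSpecResidueField (t P))) :
    ∃ w : Polynomial B, w.eval 0 ∉ P.asIdeal ∧ ∀ {R : CommRingCat.{u}} (g : B ⟶ R) (r : R),
      IsUnit (w.eval₂ g.hom r) → sp t g r ≫ u = 1 → r = 0 := by
  let BX : CommRingCat.{u} := CommRingCat.of (Polynomial B)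
  let cB : B ⟶ BX := CommRingCat.ofHom Polynomial.C
  let ev : BX ⟶ B := CommRingCat.ofHom (Polynomial.evalRingHom (0 : B))
  have hev : cB ≫ ev = 𝟙 B := CommRingCat.hom_ext (RingHom.ext fun b => Polynomial.eval_C)
  let m : Spec BX ⟶ G.left := (sp t cB (Polynomial.X : Polynomial B) ≫ u).left
  let e₁ : Spec B ⟶ G.left := t ≫ η[G].left
  let P₀ : ↥(Spec BX) := Spec.map ev P
  have hm0 : Spec.map ev ≫ m = (1 : pt t (𝟙 B) ⟶ G).left := by
    have h := congrArg CommaMorphism.left (congrArg (· ≫ u) (res_sp t cB ev (𝟙 B) hev (Polynomial.X : Polynomial B)))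
    have h0 : ev (Polynomial.X : Polynomial B) = 0 := Polynomial.eval_X
    rw [h0] at h
    simp only [sp_zero, MonObj.one_comp, Category.assoc] at h
    exact h
  have hone : ∀ {R : CommRingCat.{u}} (g : B ⟶ R), (1 : pt t g ⟶ G).left = Spec.map g ≫ e₁ := fun g => by
    rw [Hom.one_def]
    show (Spec.map g ≫ t) ≫ η[G].left = _
    rw [Category.assoc]
  rw [hone, Spec.map_id, Category.id_comp] at hm0
  obtain ⟨_, ⟨V, hV, rfl⟩, hyV, -⟩ :=
    G.left.isBasis_affineOpens.exists_subset_of_mem_open (Set.mem_univ (e₁ P)) isOpen_univ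
  let W₀ : (Spec BX).Opens := m ⁻¹ᵁ V ⊓ Spec.map cB ⁻¹ᵁ (e₁ ⁻¹ᵁ V)
  have hP₀ : P₀ ∈ W₀ := by
    refine ⟨?_, ?_⟩
    · show m (Spec.map ev P) ∈ V
      rw [← Scheme.Hom.comp_apply, hm0]
      exact hyV
    · show e₁ (Spec.map cB (Spec.map ev P)) ∈ V
      rw [← Scheme.Hom.comp_apply (Spec.map ev), ← Spec.map_comp, hev, Spec.map_id]
      exact hyV
  obtain ⟨_, ⟨_, ⟨h, rfl⟩, rfl⟩, hh, hsub⟩ :=
    PrimeSpectrum.isBasis_basic_opens.exists_subset_of_mem_open hP₀ W₀.2
  have hh0 : (h : Polynomial B).eval 0 ∉ P.asIdeal := hh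
  let A : CommRingCat.{u} := CommRingCat.of (Localization.Away (h : Polynomial B))
  let io : BX ⟶ A := CommRingCat.ofHom (algebraMap _ _)
  have hrange : ∀ z : ↥(Spec A), Spec.map io z ∈ W₀ := fun z => hsub (by
    show h ∉ (Spec.map io z).asIdeal
    exact fun hz => z.2.ne_top (Ideal.eq_top_of_isUnit_mem _ hz (IsLocalization.Away.algebraMap_isUnit h)))
  obtain ⟨φ₁, hφ₁⟩ : ∃ φ : Γ(G.left, V) ⟶ A, Spec.map φ ≫ hV.fromSpec = Spec.map io ≫ m := by
    obtain ⟨φ, hφ⟩ := Spec.map_surjective (IsOpenImmersion.lift hV.fromSpec (Spec.map io ≫ m) (by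
      rintro _ ⟨z, rfl⟩
      rw [IsAffineOpen.range_fromSpec]
      exact (hrange z).1))
    exact ⟨φ, by rw [hφ, IsOpenImmersion.lift_fac]⟩
  obtain ⟨φ₂, hφ₂⟩ : ∃ φ : Γ(G.left, V) ⟶ A, Spec.map φ ≫ hV.fromSpec = Spec.map (cB ≫ io) ≫ e₁ := by
    obtain ⟨φ, hφ⟩ := Spec.map_surjective (IsOpenImmersion.lift hV.fromSpec (Spec.map (cB ≫ io) ≫ e₁) (by
      rintro _ ⟨z, rfl⟩
      rw [IsAffineOpen.range_fromSpec, Spec.map_comp]
      exact (hrange z).2))
    exact ⟨φ, by rw [hφ, IsOpenImmersion.lift_fac]⟩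
  let J : Ideal A := Ideal.span (Set.range fun v => φ₁ v - φ₂ v)
  have key : ∀ {R : CommRingCat.{u}} (ψ : A ⟶ R) (g : B ⟶ R) (_ : cB ≫ io ≫ ψ = g),
      sp t g (ψ (io (Polynomial.X : Polynomial B))) ≫ u = 1 ↔ J ≤ RingHom.ker ψ.hom := by
    intro R ψ g hg
    rw [show ψ (io (Polynomial.X : Polynomial B)) = (io ≫ ψ) (Polynomial.X : Polynomial B) from rfl,
      ← res_sp t cB (io ≫ ψ) g hg]
    have hl : ((res t cB (io ≫ ψ) g hg ≫ sp t cB (Polynomial.X : Polynomial B)) ≫ u).left =
        Spec.map ψ ≫ Spec.map φ₁ ≫ hV.fromSpec := by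
      rw [hφ₁, ← Spec.map_comp_assoc]
      rfl
    have hr : (1 : pt t g ⟶ G).left = Spec.map ψ ≫ Spec.map φ₂ ≫ hV.fromSpec := by
      rw [hone, hφ₂, ← Spec.map_comp_assoc, Category.assoc, hg]
    constructor
    · intro he
      have h1 := hl.symm.trans ((congrArg CommaMorphism.left he).trans hr)
      rw [← Category.assoc, ← Category.assoc, cancel_mono, ← Spec.map_comp, ← Spec.map_comp] at h1
      have h2 := Spec.map_injective h1
      refine Ideal.span_le.2 ?_
      rintro _ ⟨v, rfl⟩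
      show ψ.hom (φ₁ v - φ₂ v) = 0
      rw [map_sub, sub_eq_zero]
      exact ConcreteCategory.congr_hom h2 v
    · intro hJ
      refine Over.OverMorphism.ext (hl.trans (Eq.trans ?_ hr.symm))
      rw [← Category.assoc, ← Category.assoc, ← Spec.map_comp, ← Spec.map_comp]
      congr 2
      refine CommRingCat.hom_ext (RingHom.ext fun v => sub_eq_zero.1 ?_)
      have := hJ (Ideal.subset_span ⟨v, rfl⟩)
      rw [RingHom.mem_ker, map_sub] at this
      exact this
  let PA : Ideal A := P.asIdeal.map (cB ≫ io).hom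
  obtain ⟨s, hs, hsX⟩ : ∃ s : B, s ∉ P.asIdeal ∧
      (cB ≫ io) s * io (Polynomial.X : Polynomial B) ∈ J ⊔ PA := by
    let q : A →+* A ⧸ (J ⊔ PA) := Ideal.Quotient.mk _
    let M : Submonoid (A ⧸ (J ⊔ PA)) := P.asIdeal.primeCompl.map (q.comp (cB ≫ io).hom).toMonoidHom
    let R : CommRingCat.{u} := CommRingCat.of (Localization M)
    let ψ : A ⟶ R := CommRingCat.ofHom ((algebraMap (A ⧸ (J ⊔ PA)) (Localization M)).comp q)
    let g : B ⟶ R := cB ≫ io ≫ ψ
    have hker : P.asIdeal ≤ RingHom.ker g.hom := fun b hb => by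
      show algebraMap (A ⧸ (J ⊔ PA)) (Localization M) (q ((cB ≫ io) b)) = 0
      rw [show q ((cB ≫ io) b) = 0 from Ideal.Quotient.eq_zero_iff_mem.2
        (le_sup_right (a := J) (Ideal.mem_map_of_mem _ hb)), map_zero]
    have hunit : P.asIdeal.primeCompl ≤ (IsUnit.submonoid R).comap g.hom := fun b hb => by
      show IsUnit (algebraMap (A ⧸ (J ⊔ PA)) (Localization M) (q ((cB ≫ io) b)))
      exact IsLocalization.map_units (Localization M) (⟨q ((cB ≫ io) b), ⟨b, hb, rfl⟩⟩ : M)
    obtain ⟨k, -, -, -, hk⟩ := CentralLoc.exists_residue_factor t P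
    have hK : KerTriv u (Spec.map (CommRingCat.ofHom (algebraMap B P.asIdeal.ResidueField)) ≫ t) :=
      hP.of_comp k hk
    have hJ : J ≤ RingHom.ker ψ.hom := fun a ha => by
      show algebraMap _ (Localization M) (q a) = 0
      rw [show q a = 0 from Ideal.Quotient.eq_zero_iff_mem.2 (le_sup_left (b := PA) ha), map_zero]
    have h1 := hK (pt t g) (Over.homMk (Spec.map (CommRingCat.ofHom
        (Ideal.ResidueField.lift P.asIdeal g.hom hker hunit))) (by
          show Spec.map _ ≫ Spec.map _ ≫ t = Spec.map g ≫ t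
          rw [← Spec.map_comp_assoc]
          congr 2
          exact CommRingCat.hom_ext (RingHom.ext fun b => Ideal.ResidueField.lift_algebraMap P.asIdeal g.hom hker hunit b)))
      _ ((key ψ g rfl).2 hJ)
    have h2 : (Scheme.ΓSpecIso R).inv (ψ (io (Polynomial.X : Polynomial B))) = 0 := by
      have := congrArg Red.gaFn h1
      rwa [gaFn_gp, GaPoints.gaFn_one] at this
    have h3 : algebraMap _ (Localization M) (q (io (Polynomial.X : Polynomial B))) = 0 := by
      have := congrArg (Scheme.ΓSpecIso R).hom h2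
      rwa [map_zero, Iso.inv_hom_id_apply] at this
    obtain ⟨⟨_, s, hs, rfl⟩, hms⟩ := (IsLocalization.map_eq_zero_iff M (Localization M) _).1 h3
    refine ⟨s, hs, Ideal.Quotient.eq_zero_iff_mem.1 ?_⟩
    rw [map_mul]
    exact hms
  obtain ⟨j, hj, p, hp, hjp⟩ := Submodule.mem_sup.1 hsX
  have hPA : PA = (P.asIdeal.map (Polynomial.C : B →+* Polynomial B)).map io.hom := (Ideal.map_map _ _).symm
  rw [hPA] at hp
  obtain ⟨⟨⟨p₀, hp₀⟩, ⟨_, n, rfl⟩⟩, hpn⟩ :=
    (IsLocalization.mem_map_algebraMap_iff (Submonoid.powers (h : Polynomial B)) A).1 hp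
  let Bh : CommRingCat.{u} := CommRingCat.of (Localization.Away ((h : Polynomial B).eval 0))
  have hu₀ : IsUnit (((algebraMap B (Localization.Away ((h : Polynomial B).eval 0))).comp
      (Polynomial.evalRingHom 0)) h) := IsLocalization.Away.algebraMap_isUnit ((h : Polynomial B).eval 0)
  let ψ₀ : A ⟶ Bh := CommRingCat.ofHom (IsLocalization.Away.lift (h : Polynomial B)
    (g := (algebraMap B (Localization.Away ((h : Polynomial B).eval 0))).comp (Polynomial.evalRingHom 0))
    hu₀)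
  have hψio : ∀ f : Polynomial B, ψ₀ (io f) = algebraMap B _ (f.eval 0) := fun f =>
    IsLocalization.Away.lift_eq _ hu₀ _
  have hψj : ψ₀ j = 0 := by
    refine RingHom.mem_ker.1 ((key ψ₀ (cB ≫ io ≫ ψ₀) rfl).1 ?_ hj)
    rw [hψio, Polynomial.eval_X, map_zero, sp_zero, MonObj.one_comp]
  have hψp : algebraMap B Bh (p₀.eval 0) = 0 := by
    have e2 := congrArg ψ₀ hjp
    rw [map_add, hψj, _root_.zero_add, map_mul, hψio, Polynomial.eval_X, map_zero, mul_zero] at e2
    have e : ψ₀ (p * io ((h : Polynomial B) ^ n)) = ψ₀ (io p₀) := congrArg ψ₀ hpn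
    rw [map_mul, e2, zero_mul, hψio] at e
    exact e.symm
  obtain ⟨⟨_, N, rfl⟩, hN⟩ := (IsLocalization.map_eq_zero_iff (Submonoid.powers ((h : Polynomial B).eval 0)) _ _).1 hψp
  let p₁ : Polynomial B := Polynomial.C ((h : Polynomial B).eval 0 ^ N) * p₀
  have hp₁ : p₁ = Polynomial.X * p₁.divX := by
    have h0 : p₁.coeff 0 = 0 := by
      rw [Polynomial.coeff_zero_eq_eval_zero, Polynomial.eval_mul, Polynomial.eval_C]
      exact hN
    conv_lhs => rw [← Polynomial.X_mul_divX_add p₁, h0, map_zero, _root_.add_zero]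
  let h₀ := (h : Polynomial B).eval 0
  let qp : Polynomial B := Polynomial.C (s * h₀ ^ N) * (h : Polynomial B) ^ n - p₁.divX
  have hq0 : qp.eval 0 ∉ P.asIdeal := fun hq => by
    have hd : p₁.divX.eval 0 ∈ P.asIdeal := by
      rw [← Polynomial.coeff_zero_eq_eval_zero, Polynomial.coeff_divX]
      exact Ideal.mem_map_C_iff.1 (Ideal.mul_mem_left _ _ hp₀) _
    have : s * h₀ ^ N * h₀ ^ n ∈ P.asIdeal := by
      have := P.asIdeal.add_mem hq hd
      have e : qp.eval 0 + p₁.divX.eval 0 = s * h₀ ^ N * h₀ ^ n := by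
        show ((Polynomial.C (s * h₀ ^ N) * (h : Polynomial B) ^ n - p₁.divX : Polynomial B)).eval 0 + _ = _
        rw [Polynomial.eval_sub, sub_add_cancel, Polynomial.eval_mul, Polynomial.eval_C, Polynomial.eval_pow]
      rwa [e] at this
    rcases P.2.mem_or_mem this with h' | h'
    · rcases P.2.mem_or_mem h' with h'' | h''
      · exact hs h''
      · exact hh0 (P.2.mem_of_pow_mem _ h'')
    · exact hh0 (P.2.mem_of_pow_mem _ h')
  have hqJ : io qp * io (Polynomial.X : Polynomial B) ∈ J := by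
    have e : io qp * io (Polynomial.X : Polynomial B) =
        io (Polynomial.C (h₀ ^ N)) * io ((h : Polynomial B) ^ n) * j := by
      have hX : io p₁ = io (Polynomial.X : Polynomial B) * io p₁.divX := by rw [← map_mul, ← hp₁]
      simp only [qp, map_sub, map_mul]
      simp only [p₁, map_mul] at hX
      have hjp' : j + p = io (Polynomial.C s) * io (Polynomial.X : Polynomial B) := hjp
      have hpn' : p * io ((h : Polynomial B) ^ n) = io p₀ := hpn
      linear_combination hX - io (Polynomial.C (h₀ ^ N)) * io ((h : Polynomial B) ^ n) * hjp' +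
        io (Polynomial.C (h₀ ^ N)) * hpn'
    rw [e]
    exact J.mul_mem_left _ hj
  refine ⟨h * qp, fun hw => ?_, fun {R} g r hu hN' => ?_⟩
  · rw [Polynomial.eval_mul] at hw
    exact (P.2.mem_or_mem hw).elim hh0 hq0
  rw [Polynomial.eval₂_mul, IsUnit.mul_iff] at hu
  let ψ : A ⟶ R := CommRingCat.ofHom
    (IsLocalization.Away.lift (h : Polynomial B) (g := Polynomial.eval₂RingHom g.hom r) hu.1)
  have hψ : ∀ f : Polynomial B, ψ (io f) = f.eval₂ g.hom r := fun f =>
    IsLocalization.Away.lift_eq (h : Polynomial B) hu.1 f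
  have hg : cB ≫ io ≫ ψ = g := CommRingCat.hom_ext (RingHom.ext fun b => by
    show ψ (io (Polynomial.C b)) = _
    rw [hψ, Polynomial.eval₂_C])
  have h4 := (key ψ g hg).1 (by rwa [hψ, Polynomial.eval₂_X]) hqJ
  rw [RingHom.mem_ker] at h4
  erw [map_mul, hψ, hψ, Polynomial.eval₂_X] at h4
  exact (hu.2.mul_right_eq_zero).1 h4

/-- If moreover the kernel is stable under homotheties it is trivial near the point. -/
theorem exists_triv (P : PrimeSpectrum B) (hP : KerTriv u (S.fromSpecResidueField (t P)))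
    (hst : ∀ (X : Over S) (a : Γ(X.left, ⊤)) (c : Γ(X.left, ⊤)ˣ), gp a ≫ u = 1 →
      gp ((c : Γ(X.left, ⊤)) * a) ≫ u = 1) :
    ∃ b : B, b ∉ P.asIdeal ∧ ∀ {R : CommRingCat.{u}} (g : B ⟶ R) (r : R),
      IsUnit (g b) → sp t g r ≫ u = 1 → r = 0 := by
  classical
  obtain ⟨w, hw0, hw⟩ := exists_poly t u P hP
  refine ⟨w.eval 0, hw0, fun {R} g r hu hr => ?_⟩
  have hnil : IsNilpotent r := by
    rw [nilpotent_iff_mem_prime]
    intro Q hQ
    by_contra hrQ
    let K : CommRingCat.{u} := CommRingCat.of (AlgebraicClosure Q.ResidueField)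
    let ρ : R ⟶ K := CommRingCat.ofHom ((algebraMap Q.ResidueField (AlgebraicClosure Q.ResidueField)).comp
      (algebraMap R Q.ResidueField))
    have hρr : ρ r ≠ 0 := fun h0 => hrQ (Ideal.algebraMap_residueField_eq_zero.1
      ((algebraMap Q.ResidueField (AlgebraicClosure Q.ResidueField)).injective (h0.trans (map_zero _).symm)))
    let wK : Polynomial (AlgebraicClosure Q.ResidueField) := w.map (g ≫ ρ).hom
    have hwK : wK ≠ 0 := fun h0 => by
      have h1 : (g ≫ ρ) (w.eval 0) = 0 := by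
        have := congrArg (fun f => f.coeff 0) h0
        rwa [Polynomial.coeff_map, Polynomial.coeff_zero, Polynomial.coeff_zero_eq_eval_zero] at this
      exact (hu.map ρ.hom).ne_zero h1
    obtain ⟨c, hc⟩ := Infinite.exists_notMem_finset (insert 0 wK.roots.toFinset)
    rw [Finset.mem_insert, not_or, Multiset.mem_toFinset, Polynomial.mem_roots hwK] at hc
    have h1 : sp t (g ≫ ρ) (ρ r) ≫ u = 1 := by
      rw [← res_sp t g ρ (g ≫ ρ) rfl, Category.assoc, hr, MonObj.comp_one]
    have hcu : IsUnit ((Scheme.ΓSpecIso K).inv (c / ρ r : AlgebraicClosure Q.ResidueField)) :=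
      (isUnit_iff_ne_zero.2 (div_ne_zero hc.1 hρr) : IsUnit (c / ρ r)).map _
    have h2 := hst _ _ hcu.unit h1
    rw [IsUnit.unit_spec] at h2
    erw [← map_mul (Scheme.ΓSpecIso K).inv.hom] at h2
    have hcr : (c / ρ r : AlgebraicClosure Q.ResidueField) * ρ r = c := div_mul_cancel₀ _ hρr
    rw [hcr] at h2
    refine hc.1 (hw (g ≫ ρ) (c : K) ?_ h2)
    rw [← Polynomial.eval_map]
    exact isUnit_iff_ne_zero.2 hc.2
  refine hw g r ?_ hr
  have hd : w.eval₂ g.hom r = r * w.divX.eval₂ g.hom r + g (w.eval 0) := by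
    conv_lhs => rw [← Polynomial.X_mul_divX_add w]
    rw [Polynomial.eval₂_add, Polynomial.eval₂_mul, Polynomial.eval₂_X, Polynomial.eval₂_C,
      Polynomial.coeff_zero_eq_eval_zero]
  rw [hd]
  exact IsNilpotent.isUnit_add_right_of_commute (Commute.isNilpotent_mul_right (Commute.all _ _) hnil) hu
    (Commute.all _ _)

end Affine

end Groth.Agent.SemidirMonoLib
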